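import Groth.Agent.H6GradedUnit.Basic
import Groth.Agent.GeomReg.Basic

/-!
# Adjoining a root of a homogeneous unit
-/

set_option backward.isDefEq.respectTransparency false

universe u

open DirectSum Polynomial

namespace Groth.Agent.H6GradedUnit

variable {R : Type u} [CommRing R] (𝒜 : ℤ → AddSubgroup R) [GradedRing 𝒜] {B : Type u} [CommRing B]

/-- Twist a ring homomorphism by powers of a unit according to the degree. -/
noncomputable def twist (f : R →+* B) (v : Bˣ) : R →+* B :=
  (DirectSum.toSemiring (fun i : ℤ =>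
      ((AddMonoidHom.mulRight ((v ^ i : Bˣ) : B)).comp f.toAddMonoidHom).comp (AddSubgroup.subtype (𝒜 i)))
    (by simp)
    (fun {i j} a b => by
      simp only [AddMonoidHom.comp_apply, AddMonoidHom.coe_mulRight, RingHom.toAddMonoidHom_eq_coe,
        AddMonoidHom.coe_coe, AddSubgroup.coe_subtype, SetLike.coe_gMul, map_mul, zpow_add, Units.val_mul]
      ring)).comp
    (decomposeRingEquiv 𝒜).toRingHom

theorem twist_of_mem (f : R →+* B) (v : Bˣ) {i : ℤ} {x : R} (hx : x ∈ 𝒜 i) :
    twist 𝒜 f v x = f x * ((v ^ i : Bˣ) : B) := by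
  rw [twist, RingHom.comp_apply]
  change DirectSum.toAddMonoid _ (decompose 𝒜 x) = _
  rw [decompose_of_mem 𝒜 hx, DirectSum.toAddMonoid_of]
  rfl

theorem hom_ext_graded {f g : R →+* B} (h : ∀ (i : ℤ), ∀ x ∈ 𝒜 i, f x = g x) : f = g := by
  ext x
  induction x using DirectSum.Decomposition.inductionOn 𝒜 with
  | zero => rw [map_zero, map_zero]
  | @homogeneous i x => exact h i x x.2
  | add a b ha hb => rw [map_add, map_add, ha, hb]

theorem twist_twist {D : Type u} [CommRing D] (f : R →+* B) (v : Bˣ) (g : B →+* D) (h : R →+* D)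
    (hg : ∀ (i : ℤ), ∀ x ∈ 𝒜 i, g (f x) * ((Units.map (g : B →* D) v ^ i : Dˣ) : D) = h x) :
    g.comp (twist 𝒜 f v) = h :=
  hom_ext_graded 𝒜 fun i x hx => by
    rw [RingHom.comp_apply, twist_of_mem 𝒜 f v hx, map_mul, ← hg i x hx, ← map_zpow]
    rfl

variable [IsLocalRing (GrLC.deg0 𝒜)] {N : ℕ} {t : R}

theorem isRegularRing_adjoinRoot [IsNoetherianRing R]
    (hreg : ∀ (p : Ideal R) [p.IsPrime], IsRegularLocalRing (Localization.AtPrime p))
    (ht : t ∈ 𝒜 (N : ℤ)) (htu : IsUnit t) (hN : 0 < N) (hm : ProdCond 𝒜 N t) :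
    IsRegularRing (AdjoinRoot (Polynomial.X ^ N - Polynomial.C t)) := by
  classical
  haveI := isRegularLocalRing_quot 𝒜 hreg ht htu hN hm
  let C := R ⧸ Ideal.span {t - 1}
  haveI : IsRegularRing C := (isRegularRing_iff (R := C)).2 fun p _ => by
    refine RegLoc6.regular_of_le (q := IsLocalRing.maximalIdeal C)
      (IsLocalRing.le_maximalIdeal ‹p.IsPrime›.ne_top) ?_
    exact IsRegularLocalRing.of_ringEquiv
      (IsLocalization.atUnits C (IsLocalRing.maximalIdeal C).primeCompl
        (fun x hx => IsLocalRing.notMem_maximalIdeal.1 hx)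
        (S := Localization.AtPrime (IsLocalRing.maximalIdeal C))).toRingEquiv
  haveI : IsRegularRing (LaurentPolynomial C) :=
    GeomReg.isRegularRing_of_isLocalization (Submonoid.powers (Polynomial.X : C[X])) (LaurentPolynomial C)
  have hC1 : Ideal.Quotient.mk (Ideal.span {t - 1}) t = 1 := by
    rw [← map_one (Ideal.Quotient.mk (Ideal.span {t - 1})), Ideal.Quotient.mk_eq_mk_iff_sub_mem]
    exact Ideal.mem_span_singleton_self _
  -- the forward map
  let U : (LaurentPolynomial C)ˣ := (LaurentPolynomial.isUnit_T (R := C) 1).unit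
  have hUz : ∀ z : ℤ, ((U ^ z : (LaurentPolynomial C)ˣ) : LaurentPolynomial C) = LaurentPolynomial.T z := by
    intro z
    induction z using Int.induction_on with
    | zero => simp
    | succ n ih => rw [zpow_add_one, Units.val_mul, ih, IsUnit.unit_spec, ← LaurentPolynomial.T_add]
    | pred n ih =>
      refine (LaurentPolynomial.isUnit_T (R := C) 1).mul_right_cancel ?_
      rw [← LaurentPolynomial.T_add, sub_add_cancel, ← ih]
      conv_rhs => rw [show (-(n : ℤ)) = -(n : ℤ) - 1 + 1 by ring, zpow_add_one, Units.val_mul, IsUnit.unit_spec]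
  let c : R →+* LaurentPolynomial C := LaurentPolynomial.C.comp (Ideal.Quotient.mk (Ideal.span {t - 1}))
  let ψ : R →+* LaurentPolynomial C := twist 𝒜 c U
  have hψt : ψ t = LaurentPolynomial.T (N : ℤ) := by
    rw [show ψ t = _ from twist_of_mem 𝒜 c U ht, hUz, RingHom.comp_apply, hC1, map_one, one_mul]
  have hψ0 : (X ^ N - Polynomial.C t).eval₂ ψ (LaurentPolynomial.T 1) = 0 := by
    rw [eval₂_sub, eval₂_X_pow, eval₂_C, hψt, LaurentPolynomial.T_pow, mul_one, sub_self]
  let Φ : AdjoinRoot (X ^ N - Polynomial.C t) →+* LaurentPolynomial C :=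
    AdjoinRoot.lift ψ (LaurentPolynomial.T 1) hψ0
  -- the backward map
  let root := AdjoinRoot.root (X ^ N - Polynomial.C t)
  have hroot : root ^ N = AdjoinRoot.of _ t := by
    have := AdjoinRoot.eval₂_root (X ^ N - Polynomial.C t)
    rwa [eval₂_sub, eval₂_X_pow, eval₂_C, sub_eq_zero] at this
  have hrootu : IsUnit root := by
    refine (isUnit_pow_iff hN.ne').1 ?_
    rw [hroot]
    exact htu.map _
  let v := hrootu.unit
  let τ : R →+* AdjoinRoot (X ^ N - Polynomial.C t) := twist 𝒜 (AdjoinRoot.of _) v⁻¹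
  have hτt : τ t = 1 := by
    rw [show τ t = _ from twist_of_mem 𝒜 _ _ ht, zpow_natCast, inv_pow, ← hroot, ← hrootu.unit_spec,
      ← Units.val_pow_eq_pow_val, Units.mul_inv]
  let τC : C →+* AdjoinRoot (X ^ N - Polynomial.C t) := Ideal.Quotient.lift _ τ (fun x hx => by
    obtain ⟨y, rfl⟩ := Ideal.mem_span_singleton'.1 hx
    rw [map_mul, map_sub, hτt, map_one, sub_self, mul_zero])
  let Ψ : LaurentPolynomial C →+* AdjoinRoot (X ^ N - Polynomial.C t) := LaurentPolynomial.eval₂ τC v
  have hΦv : Units.map (Φ : _ →* LaurentPolynomial C) v = U := Units.ext (by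
    rw [Units.coe_map, IsUnit.unit_spec]
    exact (AdjoinRoot.lift_root hψ0).trans (IsUnit.unit_spec _).symm)
  have hΨU : Units.map (Ψ : LaurentPolynomial C →* _) U = v := Units.ext (by
    rw [Units.coe_map, IsUnit.unit_spec]
    exact (LaurentPolynomial.eval₂_T _ _ 1).trans (by rw [zpow_one]))
  have h1 : Φ.comp τ = c := twist_twist 𝒜 _ _ Φ c fun i x hx => by
    rw [show Φ (AdjoinRoot.of _ x) = ψ x from AdjoinRoot.lift_of hψ0, show ψ x = _ from twist_of_mem 𝒜 c U hx,
      map_inv, hΦv, inv_zpow, mul_assoc, Units.mul_inv, mul_one]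
  have h2 : Ψ.comp ψ = AdjoinRoot.of _ := twist_twist 𝒜 _ _ Ψ _ fun i x hx => by
    rw [hΨU, show Ψ (c x) = τ x from LaurentPolynomial.eval₂_C _ _ _, show τ x = _ from twist_of_mem 𝒜 _ _ hx,
      inv_zpow, mul_assoc, Units.inv_mul, mul_one]
  have hΦΨ : ∀ z, Φ (Ψ z) = z := by
    intro z
    induction z using LaurentPolynomial.induction_on' with
    | add a b ha hb => rw [map_add, map_add, ha, hb]
    | C_mul_T n a =>
      obtain ⟨x, rfl⟩ := Ideal.Quotient.mk_surjective a
      rw [map_mul, map_mul]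
      congr 1
      · rw [show Ψ (LaurentPolynomial.C (Ideal.Quotient.mk _ x)) = τ x from LaurentPolynomial.eval₂_C _ _ _]
        exact RingHom.congr_fun h1 x
      · rw [show Ψ (LaurentPolynomial.T n) = ((v ^ n : (AdjoinRoot (X ^ N - Polynomial.C t))ˣ) : _) from
          LaurentPolynomial.eval₂_T _ _ n, ← hUz n, ← hΦv, ← map_zpow]
        rfl
  have hΨΦ : ∀ z, Ψ (Φ z) = z := by
    intro z
    obtain ⟨p, rfl⟩ := AdjoinRoot.mk_surjective z
    have : (Ψ.comp Φ).comp (AdjoinRoot.mk (X ^ N - Polynomial.C t)) = AdjoinRoot.mk _ := by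
      refine Polynomial.ringHom_ext (fun x => ?_) ?_
      · simp only [RingHom.comp_apply, AdjoinRoot.mk_C]
        rw [show Φ (AdjoinRoot.of _ x) = ψ x from AdjoinRoot.lift_of hψ0]
        exact RingHom.congr_fun h2 x
      · simp only [RingHom.comp_apply, AdjoinRoot.mk_X]
        rw [show Φ (AdjoinRoot.root _) = _ from AdjoinRoot.lift_root hψ0, show Ψ (LaurentPolynomial.T 1) = _ from
          LaurentPolynomial.eval₂_T _ _ 1, zpow_one]
        exact IsUnit.unit_spec _
    exact RingHom.congr_fun this p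
  exact IsRegularRing.of_ringEquiv (R := LaurentPolynomial C)
    (RingEquiv.ofBijective Ψ ⟨fun a b h => by rw [← hΦΨ a, h, hΦΨ], fun z => ⟨Φ z, hΨΦ z⟩⟩)

end Groth.Agent.H6GradedUnit
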