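import Groth.Prelude.Def_GrLC
import Groth.Agent.RegLoc6.Basic
import Groth.Agent.RegLoc6.Open
import Mathlib.RingTheory.GradedAlgebra.Radical

/-!
# A graded regular ring with a homogeneous unit, modulo that unit minus one
-/

universe u

open DirectSum

namespace Groth.Agent.H6GradedUnit

variable {R : Type u} [CommRing R] (𝒜 : ℤ → AddSubgroup R) [GradedRing 𝒜] {N : ℕ} {t : R}

theorem exists_unit (ht : t ∈ 𝒜 (N : ℤ)) (htu : IsUnit t) :
    ∃ u : Rˣ, (u : R) = t ∧ ∀ z : ℤ, ((u ^ z : Rˣ) : R) ∈ 𝒜 (z * N) := by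
  obtain ⟨v, hv⟩ := htu.exists_right_inv
  have hvN : t * (decompose 𝒜 v (-(N : ℤ)) : R) = 1 := by
    have h := coe_decompose_mul_add_of_left_mem 𝒜 ht (b := v) (j := -(N : ℤ))
    rw [hv, add_neg_cancel, decompose_of_mem_same 𝒜 (SetLike.one_mem_graded 𝒜)] at h
    exact h.symm
  let u : Rˣ := ⟨t, decompose 𝒜 v (-(N : ℤ)), hvN, by rw [mul_comm]; exact hvN⟩
  refine ⟨u, rfl, fun z => ?_⟩
  induction z using Int.induction_on with
  | zero => simpa using SetLike.one_mem_graded 𝒜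
  | succ n ih =>
    rw [zpow_add_one, Units.val_mul, add_mul, one_mul]
    exact SetLike.mul_mem_graded ih ht
  | pred n ih =>
    rw [zpow_sub_one, Units.val_mul, sub_mul, one_mul, sub_eq_add_neg]
    exact SetLike.mul_mem_graded ih (SetLike.coe_mem (decompose 𝒜 v (-(N : ℤ))))

/-- The hypothesis on products: they fall into the maximal ideal times the unit. -/
def ProdCond [IsLocalRing (GrLC.deg0 𝒜)] (N : ℕ) (t : R) : Prop :=
  ∀ (i j : ℤ), 0 < i → 0 < j → i + j = (N : ℤ) → ∀ a ∈ 𝒜 i, ∀ b ∈ 𝒜 j,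
    ∃ c : GrLC.deg0 𝒜, c ∈ IsLocalRing.maximalIdeal (GrLC.deg0 𝒜) ∧ a * b = (c : R) * t

theorem prodCond_of_min [IsLocalRing (GrLC.deg0 𝒜)] (ht : t ∈ 𝒜 (N : ℤ)) (htu : IsUnit t)
    (hmin : ∀ (n : ℤ), 0 < n → n < (N : ℤ) → ∀ s ∈ 𝒜 n, ¬ IsUnit s) : ProdCond 𝒜 N t := by
  obtain ⟨u, hu, hmem⟩ := exists_unit 𝒜 ht htu
  intro i j hi hj hij a ha b hb
  have hc : a * b * ((u ^ (-1 : ℤ) : Rˣ) : R) ∈ 𝒜 0 := by
    have := SetLike.mul_mem_graded (SetLike.mul_mem_graded ha hb) (hmem (-1))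
    rwa [show i + j + -1 * (N : ℤ) = 0 by omega] at this
  have heq : a * b = a * b * ((u ^ (-1 : ℤ) : Rˣ) : R) * t := by
    rw [← hu, zpow_neg_one, mul_assoc, Units.inv_mul, mul_one]
  refine ⟨⟨_, hc⟩, fun hcu => hmin i hi (by omega) a ha ?_, heq⟩
  have h2 : IsUnit (a * b * ((u ^ (-1 : ℤ) : Rˣ) : R)) := hcu.map (GrLC.deg0 𝒜).subtype
  exact isUnit_of_mul_isUnit_left (isUnit_of_mul_isUnit_left h2)

/-- The non-divisible degrees together with the unit minus one. -/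
def offIdeal (N : ℕ) (t : R) : Ideal R :=
  Ideal.span {x | ∃ i : ℤ, ¬ (N : ℤ) ∣ i ∧ x ∈ 𝒜 i} ⊔ Ideal.span {t - 1}

theorem zpow_sub_one_mem {u : Rˣ} (hu : (u : R) = t) (z : ℤ) : ((u ^ z : Rˣ) : R) - 1 ∈ Ideal.span {t - 1} := by
  have h1 : Units.map (Ideal.Quotient.mk (Ideal.span {t - 1}) : R →* R ⧸ Ideal.span {t - 1}) u = 1 := Units.ext (by
    rw [Units.coe_map, Units.val_one]
    change Ideal.Quotient.mk (Ideal.span {t - 1}) (u : R) = 1
    rw [hu, ← map_one (Ideal.Quotient.mk (Ideal.span {t - 1})), Ideal.Quotient.mk_eq_mk_iff_sub_mem]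
    exact Ideal.mem_span_singleton_self _)
  rw [← Ideal.Quotient.mk_eq_mk_iff_sub_mem, map_one]
  have h2 := congrArg (fun v : (R ⧸ Ideal.span {t - 1})ˣ => (v : R ⧸ Ideal.span {t - 1})) (congrArg (· ^ z) h1)
  simp only [← map_zpow, one_zpow, Units.val_one, Units.coe_map] at h2
  exact h2

theorem exists_deg0 (ht : t ∈ 𝒜 (N : ℤ)) (htu : IsUnit t) (x : R) :
    ∃ e : GrLC.deg0 𝒜, x - (e : R) ∈ offIdeal 𝒜 N t := by
  classical
  obtain ⟨u, hu, hmem⟩ := exists_unit 𝒜 ht htu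
  induction x using DirectSum.Decomposition.inductionOn 𝒜 with
  | zero => exact ⟨0, by simp⟩
  | @homogeneous i x =>
    by_cases hd : (N : ℤ) ∣ i
    · obtain ⟨q, rfl⟩ := hd
      have h0 : (x : R) * ((u ^ (-q) : Rˣ) : R) ∈ 𝒜 0 := by
        have := SetLike.mul_mem_graded x.2 (hmem (-q))
        rwa [show (N : ℤ) * q + -q * N = 0 by ring] at this
      refine ⟨⟨_, h0⟩, Ideal.mem_sup_right ?_⟩
      have := Ideal.mul_mem_left _ (-(x : R)) (zpow_sub_one_mem hu (-q))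
      convert this using 1
      ring
    · exact ⟨0, Ideal.mem_sup_left (Ideal.subset_span ⟨i, hd, by simp⟩)⟩
  | add a b ha hb =>
    obtain ⟨e, he⟩ := ha
    obtain ⟨f, hf⟩ := hb
    exact ⟨e + f, by rw [AddMemClass.coe_add, add_sub_add_comm]; exact Ideal.add_mem _ he hf⟩

variable [IsLocalRing (GrLC.deg0 𝒜)]

/-- The `N`-th power of a class in a non-divisible degree lies in the maximal ideal. -/
theorem exists_pow_sub_mem (ht : t ∈ 𝒜 (N : ℤ)) (htu : IsUnit t) (hN : 0 < N) (hm : ProdCond 𝒜 N t)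
    {i : ℤ} (hi : ¬ (N : ℤ) ∣ i) {x : R} (hx : x ∈ 𝒜 i) :
    ∃ c : GrLC.deg0 𝒜, c ∈ IsLocalRing.maximalIdeal (GrLC.deg0 𝒜) ∧ x ^ N - (c : R) ∈ Ideal.span {t - 1} := by
  obtain ⟨u, hu, hmem⟩ := exists_unit 𝒜 ht htu
  obtain ⟨q, r, rfl, hr0, hrN⟩ : ∃ q r : ℤ, i = N * q + r ∧ 0 < r ∧ r < N := by
    refine ⟨i / N, i % N, (Int.mul_ediv_add_emod i N).symm, ?_, Int.emod_lt_of_pos _ (by omega)⟩
    exact lt_of_le_of_ne (Int.emod_nonneg _ (by omega)) fun h => hi (Int.dvd_of_emod_eq_zero h.symm)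
  have hy : x * ((u ^ (-q) : Rˣ) : R) ∈ 𝒜 r := by
    have := SetLike.mul_mem_graded hx (hmem (-q))
    rwa [show (N : ℤ) * q + r + -q * N = r by ring] at this
  have hz : (x * ((u ^ (-q) : Rˣ) : R)) ^ (N - 1) * ((u ^ (-(r - 1)) : Rˣ) : R) ∈ 𝒜 ((N : ℤ) - r) := by
    have := SetLike.mul_mem_graded (SetLike.pow_mem_graded (N - 1) hy) (hmem (-(r - 1)))
    rwa [nsmul_eq_mul, show ((N - 1 : ℕ) : ℤ) * r + -(r - 1) * N = (N : ℤ) - r by
      rw [Nat.cast_sub hN]; push_cast; ring] at this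
  obtain ⟨c, hc, hceq⟩ := hm r ((N : ℤ) - r) hr0 (by omega) (by omega) _ hy _ hz
  refine ⟨c, hc, ?_⟩
  have key : ((u ^ (-q) : Rˣ) : R) ^ N * ((u ^ (-(r - 1)) : Rˣ) : R) * x ^ N = (c : R) * t := by
    rw [← hceq]
    conv_lhs => rw [show N = N - 1 + 1 by omega, pow_succ, pow_succ x]
    ring
  rw [← Ideal.Quotient.mk_eq_mk_iff_sub_mem]
  have hone : ∀ z : ℤ, Ideal.Quotient.mk (Ideal.span {t - 1}) ((u ^ z : Rˣ) : R) = 1 := fun z => by
    rw [← map_one (Ideal.Quotient.mk (Ideal.span {t - 1})), Ideal.Quotient.mk_eq_mk_iff_sub_mem]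
    exact zpow_sub_one_mem hu z
  have htone : Ideal.Quotient.mk (Ideal.span {t - 1}) t = 1 := by
    have h1 := hone 1
    rwa [zpow_one, hu] at h1
  have := congrArg (Ideal.Quotient.mk (Ideal.span {t - 1})) key
  simp only [map_mul, map_pow, hone, htone, one_pow, one_mul, mul_one] at this ⊢
  exact this

theorem isIntegral_toQuot (ht : t ∈ 𝒜 (N : ℤ)) (htu : IsUnit t) (hN : 0 < N) (hm : ProdCond 𝒜 N t) :
    ((Ideal.Quotient.mk (Ideal.span {t - 1})).comp (GrLC.deg0 𝒜).subtype).IsIntegral := by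
  classical
  obtain ⟨u, hu, hmem⟩ := exists_unit 𝒜 ht htu
  set ψ := (Ideal.Quotient.mk (Ideal.span {t - 1})).comp (GrLC.deg0 𝒜).subtype
  intro y
  obtain ⟨x, rfl⟩ := Ideal.Quotient.mk_surjective y
  induction x using DirectSum.Decomposition.inductionOn 𝒜 with
  | zero => rw [map_zero]; exact ψ.isIntegralElem_zero
  | @homogeneous i x =>
    by_cases hd : (N : ℤ) ∣ i
    · obtain ⟨q, rfl⟩ := hd
      have h0 : (x : R) * ((u ^ (-q) : Rˣ) : R) ∈ 𝒜 0 := by
        have := SetLike.mul_mem_graded x.2 (hmem (-q))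
        rwa [show (N : ℤ) * q + -q * N = 0 by ring] at this
      have : Ideal.Quotient.mk (Ideal.span {t - 1}) (x : R) = ψ ⟨_, h0⟩ := by
        refine (Ideal.Quotient.mk_eq_mk_iff_sub_mem _ _).2 ?_
        have := Ideal.mul_mem_left _ (-(x : R)) (zpow_sub_one_mem hu (-q))
        convert this using 1
        change (x : R) - (x : R) * _ = _
        ring
      rw [this]
      exact ψ.isIntegralElem_map
    · obtain ⟨c, -, hc⟩ := exists_pow_sub_mem 𝒜 ht htu hN hm hd x.2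
      refine ⟨Polynomial.X ^ N - Polynomial.C c, Polynomial.monic_X_pow_sub_C c hN.ne', ?_⟩
      rw [Polynomial.eval₂_sub, Polynomial.eval₂_X_pow, Polynomial.eval₂_C, ← map_pow, sub_eq_zero]
      exact (Ideal.Quotient.mk_eq_mk_iff_sub_mem _ _).2 hc
  | add a b ha hb => rw [map_add]; exact ha.add ψ hb

/-- The only candidate for a maximal ideal containing `t - 1`. -/
def maxIdeal (N : ℕ) (t : R) : Ideal R :=
  offIdeal 𝒜 N t ⊔ (IsLocalRing.maximalIdeal (GrLC.deg0 𝒜)).map (GrLC.deg0 𝒜).subtype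

theorem eq_maxIdeal (ht : t ∈ 𝒜 (N : ℤ)) (htu : IsUnit t) (hN : 0 < N) (hm : ProdCond 𝒜 N t)
    (P : Ideal R) [P.IsMaximal] (hP : t - 1 ∈ P) : P = maxIdeal 𝒜 N t := by
  let M := P.map (Ideal.Quotient.mk (Ideal.span {t - 1}))
  have hker : RingHom.ker (Ideal.Quotient.mk (Ideal.span {t - 1})) ≤ P := by
    rw [Ideal.mk_ker, Ideal.span_singleton_le_iff_mem]
    exact hP
  have hMP : M.comap (Ideal.Quotient.mk (Ideal.span {t - 1})) = P := by
    rw [Ideal.comap_map_of_surjective _ Ideal.Quotient.mk_surjective, ← RingHom.ker_eq_comap_bot]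
    exact sup_eq_left.2 hker
  haveI : M.IsMaximal := Ideal.IsMaximal.map_of_surjective_of_ker_le Ideal.Quotient.mk_surjective hker
  have hcm : P.comap (GrLC.deg0 𝒜).subtype = IsLocalRing.maximalIdeal (GrLC.deg0 𝒜) := by
    refine IsLocalRing.eq_maximalIdeal ?_
    rw [← hMP, Ideal.comap_comap]
    exact Ideal.isMaximal_comap_of_isIntegral_of_isMaximal' _ (isIntegral_toQuot 𝒜 ht htu hN hm) M
  have hsub : maxIdeal 𝒜 N t ≤ P := by
    refine sup_le (sup_le (Ideal.span_le.2 ?_) ((Ideal.span_singleton_le_iff_mem _).2 hP))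
      (Ideal.map_le_iff_le_comap.2 hcm.ge)
    rintro x ⟨i, hi, hx⟩
    obtain ⟨c, hc, hcx⟩ := exists_pow_sub_mem 𝒜 ht htu hN hm hi hx
    refine ‹P.IsMaximal›.isPrime.mem_of_pow_mem N ?_
    have h1 : (c : R) ∈ P := Ideal.mem_comap.1 (hcm.ge hc)
    have h2 := Ideal.add_mem _ (hker (by rw [Ideal.mk_ker]; exact hcx)) h1
    rwa [sub_add_cancel] at h2
  refine le_antisymm (fun x hx => ?_) hsub
  obtain ⟨e, he⟩ := exists_deg0 𝒜 ht htu x
  have hle : offIdeal 𝒜 N t ≤ maxIdeal 𝒜 N t := le_sup_left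
  have heP : (e : R) ∈ P := by simpa using P.sub_mem hx (hsub (hle he))
  have : (e : R) ∈ maxIdeal 𝒜 N t :=
    Ideal.mem_sup_right (Ideal.mem_map_of_mem _ (hcm.le (Ideal.mem_comap.2 heP)))
  simpa using Ideal.add_mem _ (hle he) this

omit [IsLocalRing (GrLC.deg0 𝒜)] in
theorem not_isUnit_sub_one [Nontrivial R] (ht : t ∈ 𝒜 (N : ℤ)) (htu : IsUnit t) (hN : 0 < N) :
    ¬ IsUnit (t - 1) := by
  classical
  intro h
  obtain ⟨f, hf⟩ := h.exists_right_inv
  have key : ∀ j : ℤ, t * (decompose 𝒜 f j : R) - (decompose 𝒜 f (j + N) : R) = (decompose 𝒜 1 (j + N) : R) := by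
    intro j
    rw [← hf, sub_mul, one_mul, decompose_sub, DirectSum.sub_apply, AddSubgroupClass.coe_sub,
      add_comm j (N : ℤ), coe_decompose_mul_add_of_left_mem 𝒜 ht]
  have hne : (decompose 𝒜 f).support.Nonempty := by
    rw [Finset.nonempty_iff_ne_empty, Ne, DFinsupp.support_eq_empty]
    intro h0
    have : f = 0 := (decompose 𝒜).injective (h0.trans (decompose_zero 𝒜).symm)
    rw [this, mul_zero] at hf
    exact zero_ne_one hf
  set jmax := (decompose 𝒜 f).support.max' hne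
  set jmin := (decompose 𝒜 f).support.min' hne
  have hjmax : (decompose 𝒜 f jmax : R) ≠ 0 := by
    have := DFinsupp.mem_support_iff.1 (Finset.max'_mem _ hne)
    exact fun h => this (Subtype.ext h)
  have hjmin : (decompose 𝒜 f jmin : R) ≠ 0 := by
    have := DFinsupp.mem_support_iff.1 (Finset.min'_mem _ hne)
    exact fun h => this (Subtype.ext h)
  have hout : ∀ j, j < jmin ∨ jmax < j → (decompose 𝒜 f j : R) = 0 := by
    intro j hj
    by_contra hne0
    have hmem : j ∈ (decompose 𝒜 f).support := DFinsupp.mem_support_iff.2 fun h => hne0 (by rw [h]; rfl)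
    have := Finset.min'_le _ j hmem
    have := Finset.le_max' _ j hmem
    rcases hj with hj | hj <;> omega
  have h1 := key jmax
  rw [hout (jmax + N) (Or.inr (by omega)), sub_zero] at h1
  have h2 : jmax + (N : ℤ) = 0 := by
    by_contra hne0
    rw [decompose_of_mem_ne 𝒜 (SetLike.one_mem_graded 𝒜) (Ne.symm hne0)] at h1
    exact hjmax (htu.mul_right_eq_zero.1 h1)
  have hle : jmin ≤ jmax := Finset.min'_le _ _ (Finset.max'_mem _ hne)
  have h3 := key (jmin - N)
  rw [hout (jmin - N) (Or.inl (by omega)), mul_zero, zero_sub, show jmin - (N : ℤ) + N = jmin by ring,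
    decompose_of_mem_ne 𝒜 (SetLike.one_mem_graded 𝒜) (show (0 : ℤ) ≠ jmin by omega), neg_eq_zero] at h3
  exact hjmin h3

theorem isRegularLocalRing_quot [IsNoetherianRing R]
    (hreg : ∀ (p : Ideal R) [p.IsPrime], IsRegularLocalRing (Localization.AtPrime p))
    (ht : t ∈ 𝒜 (N : ℤ)) (htu : IsUnit t) (hN : 0 < N) (hm : ProdCond 𝒜 N t) :
    IsRegularLocalRing (R ⧸ Ideal.span {t - 1}) := by
  classical
  haveI : Nontrivial R := (GrLC.deg0 𝒜).subtype_injective.nontrivial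
  haveI : Nontrivial (R ⧸ Ideal.span {t - 1}) := Ideal.Quotient.nontrivial_iff.2 fun h =>
    not_isUnit_sub_one 𝒜 ht htu hN (Ideal.span_singleton_eq_top.1 h)
  have huniq : ∀ M : Ideal (R ⧸ Ideal.span {t - 1}), M.IsMaximal →
      M.comap (Ideal.Quotient.mk _) = maxIdeal 𝒜 N t := by
    intro M hM
    haveI := Ideal.comap_isMaximal_of_surjective (Ideal.Quotient.mk (Ideal.span {t - 1}))
      Ideal.Quotient.mk_surjective (K := M)
    refine eq_maxIdeal 𝒜 ht htu hN hm _ ?_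
    rw [Ideal.mem_comap, Ideal.Quotient.eq_zero_iff_mem.2 (Ideal.mem_span_singleton_self _)]
    exact M.zero_mem
  haveI : IsLocalRing (R ⧸ Ideal.span {t - 1}) := .of_unique_max_ideal (by
    obtain ⟨M, hM⟩ := Ideal.exists_maximal (R ⧸ Ideal.span {t - 1})
    exact ⟨M, hM, fun M' hM' => Ideal.comap_injective_of_surjective _ Ideal.Quotient.mk_surjective
      ((huniq M' hM').trans (huniq M hM).symm)⟩)
  set M := IsLocalRing.maximalIdeal (R ⧸ Ideal.span {t - 1})
  let P := M.comap (Ideal.Quotient.mk (Ideal.span {t - 1}))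
  haveI : P.IsMaximal := Ideal.comap_isMaximal_of_surjective _ Ideal.Quotient.mk_surjective
  have htP : t - 1 ∈ P := by
    rw [Ideal.mem_comap, Ideal.Quotient.eq_zero_iff_mem.2 (Ideal.mem_span_singleton_self _)]
    exact M.zero_mem
  have hPe : P = maxIdeal 𝒜 N t := huniq M inferInstance
  let P0 := (Ideal.homogeneousCore 𝒜 P).toIdeal
  haveI : P0.IsPrime := ‹P.IsMaximal›.isPrime.homogeneousCore
  have hP0P : P0 ≤ P := Ideal.toIdeal_homogeneousCore_le 𝒜 P
  have ht0 : t - 1 ∉ P0 := by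
    intro h
    have h1 := (Ideal.homogeneousCore 𝒜 P).isHomogeneous (N : ℤ) h
    rw [decompose_sub, DirectSum.sub_apply, AddSubgroupClass.coe_sub, decompose_of_mem_same 𝒜 ht,
      decompose_of_mem_ne 𝒜 (SetLike.one_mem_graded 𝒜) (show (0 : ℤ) ≠ (N : ℤ) by omega), sub_zero] at h1
    exact ‹P0.IsPrime›.ne_top (Ideal.eq_top_of_isUnit_mem _ h1 htu)
  have hsup : P ≤ P0 ⊔ Ideal.span {t - 1} := by
    conv_lhs => rw [hPe]
    refine sup_le (sup_le (Ideal.span_le.2 ?_) le_sup_right) (Ideal.map_le_iff_le_comap.2 fun c hc => ?_)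
    · rintro x ⟨i, hi, hx⟩
      have hxP : x ∈ P := hPe ▸ Ideal.mem_sup_left (Ideal.mem_sup_left (Ideal.subset_span ⟨i, hi, hx⟩))
      exact Ideal.mem_sup_left (Ideal.mem_homogeneousCore_of_homogeneous_of_mem ⟨i, hx⟩ hxP)
    · have hcP : (c : R) ∈ P := hPe ▸ Ideal.mem_sup_right (Ideal.mem_map_of_mem _ hc)
      exact Ideal.mem_sup_left (Ideal.mem_homogeneousCore_of_homogeneous_of_mem ⟨0, c.2⟩ hcP)
  let g := algebraMap R (Localization.AtPrime P)
  haveI := hreg P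
  have hgm : g (t - 1) ∈ IsLocalRing.maximalIdeal (Localization.AtPrime P) :=
    (IsLocalization.AtPrime.to_map_mem_maximal_iff _ P _).2 htP
  have hsq : g (t - 1) ∉ IsLocalRing.maximalIdeal (Localization.AtPrime P) ^ 2 := by
    intro h2
    have hle : IsLocalRing.maximalIdeal (Localization.AtPrime P) ≤ P0.map g ⊔
        IsLocalRing.maximalIdeal (Localization.AtPrime P) • IsLocalRing.maximalIdeal (Localization.AtPrime P) := by
      rw [smul_eq_mul, ← sq]
      conv_lhs => rw [← Localization.AtPrime.map_eq_maximalIdeal]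
      refine (Ideal.map_mono hsup).trans ?_
      rw [Ideal.map_sup, Ideal.map_span, Set.image_singleton]
      exact sup_le_sup_left ((Ideal.span_singleton_le_iff_mem _).2 h2) _
    have hle' := Submodule.le_of_le_smul_of_le_jacobson_bot (IsNoetherian.noetherian _)
      (IsLocalRing.maximalIdeal_le_jacobson _) hle
    have hdis : Disjoint (P.primeCompl : Set R) (P0 : Set R) := Set.disjoint_left.2 fun a ha hb => ha (hP0P hb)
    refine ht0 ?_
    rw [← IsLocalization.comap_map_of_isPrime_disjoint P.primeCompl (Localization.AtPrime P) ‹P0.IsPrime› hdis]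
    exact hle' hgm
  haveI := (RegLoc6.isRegularLocalRing_quot_and hgm hsq).1
  obtain ⟨e⟩ := RegLoc6.exists_quotLocalEquiv (Ideal.span {t - 1}) P M rfl
  have hI : (Ideal.span {t - 1}).map g = Ideal.span {g (t - 1)} := by rw [Ideal.map_span, Set.image_singleton]
  haveI : IsRegularLocalRing (Localization.AtPrime M) :=
    IsRegularLocalRing.of_ringEquiv ((Ideal.quotEquivOfEq hI.symm).trans e)
  exact IsRegularLocalRing.of_ringEquiv
    (IsLocalization.atUnits (R ⧸ Ideal.span {t - 1}) M.primeCompl (fun x hx => IsLocalRing.notMem_maximalIdeal.1 hx)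
      (S := Localization.AtPrime M)).toRingEquiv.symm

end Groth.Agent.H6GradedUnit
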